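import Cfsg.Agent.H277.EM.Univ
import Cfsg.Agent.H588.UnfLie
import Cfsg.Agent.H941.Unf.Odd
import Cfsg.Agent.H341.Unf.TwESix
import Cfsg.Agent.S4280
import Cfsg.Agent.S4281
import Cfsg.Agent.S2103
import Cfsg.Agent.S2105
import Cfsg.Agent.S2107
import Cfsg.Agent.S2108

/-!
# S2243: the exceptional groups in odd characteristic with at most two classes of involutions (helper151)

`crow_g2_odd`, `crow_3d4_odd`, `crow_ree`, `crow_f4_odd`, `crow_e8_odd`, `crow_e6_odd`, `crow_2e6_odd`.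
-/

set_option autoImplicit false
set_option linter.unusedSectionVars false

namespace Cfsg.Agent.H151.EM

open Cfsg.Agent.H277.MI Cfsg.Agent.H588.UnfLie

universe u v

/-! ### one class of involutions -/

theorem crow_of_one {L : Type u} [Group L] {X : Type v} [Group X] (e : L ≃* X)
    (hX : ∀ s t : X, s * s = 1 → s ≠ 1 → t * t = 1 → t ≠ 1 → IsConj s t) : CRow L := by
  refine CRow.congr e (CRow.of_one_class fun x y hx hy => ?_)
  obtain ⟨h1, h2⟩ := sq_ne hx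
  obtain ⟨h3, h4⟩ := sq_ne hy
  exact hX x y h1 h2 h3 h4

/-- `G₂(q)`, `q` odd -/
theorem crow_g2_odd {L : Type u} [Group L] {F : Type} [Field F] [Fintype F] (hF : Odd (Fintype.card F))
    (e : L ≃* Cfsg.Lie.chevG2.group F) : CRow L := by
  have h2 := two_ne_of_odd hF
  exact crow_of_one e fun s t hs hs1 ht ht1 => (Cfsg.Agent.Cit.HexG2.g2 F h2).isConj_invol h2 hs hs1 ht ht1

/-- `³D₄(q)`, `q` odd -/
theorem crow_3d4_odd {L : Type u} [Group L] {K : Type} [Field K] [Fintype K] {q : ℕ}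
    (hK : Fintype.card K = q ^ 3) (hq : Odd q) (e : L ≃* Cfsg.Lie.twistedD4 K q) : CRow L := by
  have h2 : (2 : K) ≠ 0 := two_ne_of_odd (by rw [hK]; exact hq.pow)
  obtain ⟨σ, -, ⟨c⟩⟩ := Cfsg.Agent.Cit.HexD4.exists_d4 hK
  exact crow_of_one e fun s t hs hs1 ht ht1 => c.isConj_invol h2 hs hs1 ht ht1

open Cfsg.Agent.LieRecognition in
/-- the Ree groups -/
theorem crow_ree {L : Type u} [Group L] (h : Cfsg.Lie.IsoRee L) : CRow L := by
  obtain ⟨F, _, _, m, hm, hF, ⟨e⟩⟩ := h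
  have hchar := Cfsg.Agent.S1157.charP_three hF
  obtain ⟨a, haH, ha1, ha2⟩ := Cfsg.Agent.S1157.exists_involution hF
  obtain ⟨⟨e'⟩, hS⟩ := Cfsg.Agent.S1152.result hF a haH ha1 ha2
  have hc := ReeCent.centData ha1 ha2 e' ReePSL.klein
  refine crow_of_one e fun s t hs hs1 ht ht1 => ?_
  obtain ⟨g, hg⟩ := ReeInv.isConj_involution hc ReePSL.klein (Cfsg.Agent.S1116.result hF hm) hS hs1 hs
  obtain ⟨k, hk⟩ := ReeInv.isConj_involution hc ReePSL.klein (Cfsg.Agent.S1116.result hF hm) hS ht1 ht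
  exact (isConj_iff.2 ⟨g, hg⟩).symm.trans (isConj_iff.2 ⟨k, hk⟩)

/-! ### two classes -/

theorem three_le {F : Type v} [Field F] [Fintype F] (hF : Odd (Fintype.card F)) : 3 ≤ Fintype.card F := by
  have h4 : 1 < Fintype.card F := Fintype.one_lt_card
  rcases hF with ⟨k, hk⟩
  omega

/-- `F₄(q)`, `q` odd -/
theorem crow_f4_odd {L : Type u} [Group L] {F : Type} [Field F] [Fintype F] (hF : Odd (Fintype.card F))
    (e : L ≃* Cfsg.Lie.chevF4.group F) : CRow L := by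
  obtain ⟨s, t, -, -, -, h, -⟩ := S4280.result hF
  exact CRow.congr e (CRow.of_two_classes s t h (expTwo_of_cyclic (S2103.result (three_le hF)) (by norm_num)))

/-- `E₈(q)`, `q` odd -/
theorem crow_e8_odd {L : Type u} [Group L] {F : Type} [Field F] [Fintype F] (hF : Odd (Fintype.card F))
    (e : L ≃* Cfsg.Lie.chevE8.group F) : CRow L := by
  obtain ⟨s, t, -, -, -, h, -⟩ := S4281.result hF
  exact CRow.congr e (CRow.of_two_classes s t h (expTwo_of_cyclic S2107.result (by norm_num)))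

theorem not_four_dvd_gcd (a : ℕ) : ¬ 4 ∣ Nat.gcd 3 a := by
  intro h
  have h1 := h.trans (Nat.gcd_dvd_left 3 a)
  omega

section ESix

open CoxeterSystem Cfsg Cfsg.Lie Cfsg.Lie.ChevalleyDatum
open Cfsg.Agent.ChevalleyStructure Cfsg.Agent.ChevalleyStructure.CoxeterGeom
  Cfsg.Agent.ChevalleyStructure.CoxeterGeomTypes
open Cfsg.Agent.Tits.Roots Cfsg.Agent.Tits.Core Cfsg.Agent.Nodes.Reps Cfsg.Agent.Nodes.BNOf Cfsg.Agent.Nodes.RGDChev
open Cfsg.Agent.KFacts.RgdChevCoord (TT XX)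
open Cfsg.Agent.GenExc Cfsg.Agent.GenExc.Chev
open Cfsg.Agent.H557 Cfsg.Agent.H557.LrAbs Cfsg.Agent.H557.LrSgn Cfsg.Agent.H557.LrTor Cfsg.Agent.H557.LrOrb
  Cfsg.Agent.H557.LrIso Cfsg.Agent.H557.LrChev Cfsg.Agent.H557.LrRho Cfsg.Agent.H557.LrData Cfsg.Agent.H557.LrNF
open Cfsg.Agent.Tits.RootComb Cfsg.Agent.Tits.Exchange Cfsg.Agent.Nodes.StabComb Cfsg.Agent.Nodes.Bruhat
  Cfsg.Agent.Nodes.OppDec Cfsg.Agent.Nodes.RGDLib
open Cfsg.Agent.H974.Exc (sym_E6 sym_E7 sym_E8 J_E6 J_E6' J_E7 J_E8 fix_of_id map_of_graph s6)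
open Cfsg.Agent.H941.UnfOdd

section Gen

variable {D : ChevalleyDatum} {l : ℕ} {M : CoxeterMatrix (Fin l)} (hp : IsType D l M)
  {W : Type*} [Group W] (cs : CoxeterSystem M W) {K : Type} [Field K] [Fintype K]

include hp cs in
theorem conj_of [Finite W] (p : ℕ) [Fact p.Prime] [CharP K p] {rm : List ℕ} (hrm : OkR (cartanOf D l) rm)
    (hZ : Subgroup.center ↥(D.group K) = ⊥) {O r : ℕ} {L : List (ℕ × ℕ)} (hL : okL l rm O (2 ^ r) L = true)
    {Sr : List (Fin l)} (hr : bits l r = csz (cartanOf D l) Sr) {t : ↥(D.group K)} {n : ℕ}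
    (hs : SgnEl cs hp.isCartan (TT D K) (XX D l K) (bits l n) t) (hn : O.testBit n = true) :
    IsConj t (zS hp K Sr) := by
  have R := rgd (K := K) hp cs p
  have hG := G1_eq_top (K := K) hp cs
  have ha := sgnEl_zS hp K cs Sr
  rw [← hr] at ha
  have key : ∀ m, O.testBit m = true → CB cs hp.isCartan (TT D K) (XX D l K) (zS hp K Sr) m := by
    refine orbit (l := l) (fun j m h => CB.step R hrm j m h) hL fun m hm => ?_
    rw [Nat.testBit_two_pow, decide_eq_true_eq] at hm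
    subst hm
    intro t ht
    rw [SgnEl.unique hG hZ ht ha]
  exact key n hn t hs

end Gen

/-- involutions of the torus of `E₆(q)` -/
theorem torus_two {K : Type} [Field K] [Finite K] (p : ℕ) [Fact p.Prime] [CharP K p] (hp2 : Odd p)
    {t : ↥(chevE6.group K)} (ht : t ∈ TT chevE6 K) (htt : t * t = 1) (h1 : t ≠ 1) :
    IsConj t (zS isType_E6 K [1, 2]) ∨ IsConj t (zS isType_E6 K [0]) := by
  have := Fintype.ofFinite K
  obtain ⟨cs, -⟩ : ∃ cs, cs = (CoxeterMatrix.E₆).toCoxeterSystem := ⟨_, rfl⟩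
  have hW : Finite (CoxeterMatrix.E₆).Group := finite_W isType_E6 cs
  have hZ : Subgroup.center ↥(chevE6.group K) = ⊥ := center_eq_bot (S1054.result _ (by simp))
  obtain ⟨n, hn, hs⟩ := exists_sgn isType_E6 cs p (odd_card (F := K) hp2).2 ht htt
  have hn0 := mask_ne_zero isType_E6 cs hZ hs h1
  rcases masksE6 n hn hn0 with h4 | h4
  · exact Or.inl (conj_of isType_E6 cs p okR_E6 hZ okE6_0 srE6_0 hs h4)
  · exact Or.inr (conj_of isType_E6 cs p okR_E6 hZ okE6_1 srE6_1 hs h4)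

/-- **the involutions of `E₆(q)`, `q` odd** -/
theorem two_E6 {K : Type} [Field K] [Fintype K] (ho : Odd (Fintype.card K)) {t : ↥(chevE6.group K)}
    (htt : t * t = 1) (h1 : t ≠ 1) :
    IsConj t (zS isType_E6 K [1, 2]) ∨ IsConj t (zS isType_E6 K [0]) := by
  obtain ⟨p, hpp, hpc, hp2⟩ := LrFam.exists_char K ho
  have : Fact p.Prime := ⟨hpp⟩
  have hp2' : p ≠ 2 := by
    rintro rfl
    exact (by decide : ¬ Odd 2) hp2
  have hS : IsSimpleGroup ↥(Lie.chevE6.group K) ∧ ¬ IsMulCommutative ↥(Lie.chevE6.group K) := S1054.result _ (by simp)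
  have hs := hS.1
  have hZ := center_eq_bot hS
  obtain ⟨cs, hcs⟩ : ∃ cs, cs = (CoxeterMatrix.E₆).toCoxeterSystem := ⟨_, rfl⟩
  have hW : Finite (CoxeterMatrix.E₆).Group := finite_W isType_E6 cs
  have R := rgd (K := K) isType_E6 cs p
  have hG := G1_eq_top (K := K) isType_E6 cs
  have hGG := KFacts.RgdRigid.GG_eq_top (T := TT chevE6 K) hG
  obtain ⟨k, φ, σ, J, g, N⟩ := exists_nf_inner hp2' R hG hZ htt h1
  have hT : k⁻¹ * t * k ∈ TT chevE6 K := by
    rcases sym_E6 ⟨σ, σ, N.σσ, N.σσ⟩ (fun i j => Cfsg.Agent.UGT.U2.FOne.FFour.sigma_matrix N.φ_simple i j) with hσ | hσ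
    · have hσ' : ∀ i, σ i = i := hσ
      have hJ := J_E6 N hσ'
      exact mem_T_of R hGG fun c hc => fix_of_id N.nx hσ' hJ hc
    · exfalso
      have hσ' : σ = s6 := funext hσ
      have hJ := J_E6' N hσ'
      have hA : ∀ i j, cartanOf chevE6 6 (σ i) (σ j) = cartanOf chevE6 6 i j := by
        rw [hσ']
        decide +kernel
      have hmap : ∀ c, IsRoot cs isType_E6.isCartan c →
          (XX chevE6 6 K c).map (MulAut.conj (k⁻¹ * t * k)).toMonoidHom = XX chevE6 6 K (c ∘ σ) :=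
        fun c hc => map_of_graph N.nx hA hJ hc
      have hroot : ∀ c, IsRoot cs isType_E6.isCartan c → IsRoot cs isType_E6.isCartan (c ∘ σ) := by
        rintro _ ⟨w, i, rfl⟩
        rw [← H974.Exc.rep_comp N.φ_simple N.σσ hA]
        refine ⟨φ w, σ i, ?_⟩
        congr 1
        funext j
        by_cases hj : j = σ i
        · rw [hj, Function.comp_apply, N.σσ, sr_self, sr_self]
        · rw [Function.comp_apply, sr_ne hj, sr_ne]
          intro h2
          exact hj (by rw [← h2, N.σσ])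
      have h6 := graph_trivial R hGG N.σσ hroot hmap 0
      rw [hσ'] at h6
      exact absurd h6 (by decide)
  have h0 : IsConj t (k⁻¹ * t * k) := isConj_iff.2 ⟨k⁻¹, by rw [inv_inv]⟩
  have h2 := torus_two p hp2 hT (by
    have : k⁻¹ * t * k * (k⁻¹ * t * k) = k⁻¹ * (t * t) * k := by group
    rw [this, htt, mul_one, inv_mul_cancel]) fun h => h1 (by
      have : t = k * (k⁻¹ * t * k) * k⁻¹ := by group
      rw [this, h, mul_one, mul_inv_cancel])
  exact h2.imp h0.trans h0.trans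

/-- `E₆(q)`, `q` odd -/
theorem crow_e6_odd {L : Type u} [Group L] {F : Type} [Field F] [Fintype F] (hF : Odd (Fintype.card F))
    (e : L ≃* Cfsg.Lie.chevE6.group F) : CRow L := by
  refine CRow.congr e (CRow.of_two_classes (zS isType_E6 F [1, 2]) (zS isType_E6 F [0]) (fun t ht => ?_)
    (expTwo_of_cyclic (S2105.result rfl) (not_four_dvd_gcd _)))
  obtain ⟨h1, h2⟩ := sq_ne ht
  exact two_E6 hF h1 h2

end ESix

section TwESix

open CoxeterSystem Cfsg.Agent.ChevalleyStructure.CoxeterGeom Cfsg.Agent.Tits.Roots Cfsg.Agent.Tits.Core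
  Cfsg.Agent.Tits.RootComb Cfsg.Agent.Nodes.Comb Cfsg.Agent.Nodes.Reps Cfsg.Agent.Nodes.BNOf
  Cfsg.Agent.Nodes.RGDTwGen Cfsg.Agent.Nodes.RGDChev Cfsg.Agent.Nodes.RGDFold
  Cfsg.Agent.Nodes.RGDFoldSL Cfsg.Agent.Nodes.RGDTwE6 Cfsg.Agent.Nodes.RGDTwTab Cfsg.Agent.Nodes.RGDTwCoordE6
  Cfsg.Agent.Nodes.RGDTwCoord Cfsg.Agent.Nodes.RGDTwComE6 Cfsg.Agent.Nodes.RGDTwActE6
  Cfsg.Agent.Nodes.RGDLib Cfsg.Agent.Nodes.Bruhat
open Cfsg.Lie Cfsg.Agent.ChevalleyStructure
open Cfsg.Agent.UGT.U2.FOne Cfsg.Agent.UGT.U2.FOne.TwESix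
open Cfsg.Agent.H557.LrAbs Cfsg.Agent.H557.LrSgn Cfsg.Agent.H557.LrTor Cfsg.Agent.H557.LrOrb Cfsg.Agent.H557.LrIso
  Cfsg.Agent.H557.LrNF Cfsg.Agent.H557.LrTwE
open Cfsg.Agent.H341.UnfTwESix
open scoped commutatorElement MatrixGroups

variable {K : Type} [Field K] [Fintype K] {q : ℕ} {φ : K →+* K} (hφ : ∀ x, φ x = x ^ q)
  (hqq : ∀ t : K, (t ^ q) ^ q = t) {W : Type*} [Group W]
  (p : ℕ) [Fact p.Prime] [CharP K p]

include hφ hqq p in
theorem two_torus (hp2 : Odd p) (hZ : Subgroup.center ↥(twistedE6 K q) = ⊥) (cs : CoxeterSystem CoxeterMatrix.F₄ W) :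
    ∃ a b : ↥(twistedE6 K q), ∀ t ∈ T K q, t * t = 1 → t ≠ 1 → IsConj t a ∨ IsConj t b := by
  have h2K := (odd_card (F := K) hp2).2
  have R := rgd cs hφ hqq p
  have hG := G1_eq_top (cs := cs) hφ hqq
  have hall : ∀ m < 16, ∃ z, SgnEl cs isCartan (T K q) (X φ q) (bits 4 m) z := by
    intro m hm
    obtain ⟨S, hS⟩ := exists_Sm hm
    rw [hS]
    exact exists_zS (cs := cs) hφ hqq S
  have key : ∀ (O r : ℕ) (L : List (ℕ × ℕ)), okL 4 rm O (2 ^ r) L = true → ∀ c : ↥(twistedE6 K q),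
      SgnEl cs isCartan (T K q) (X φ q) (bits 4 r) c → ∀ m, O.testBit m = true →
      CB cs isCartan (T K q) (X φ q) c m := by
    intro O r L hL c hc
    refine orbit (l := 4) (fun j m h => CB.step R okR j m h) hL fun m hm => ?_
    rw [Nat.testBit_two_pow, decide_eq_true_eq] at hm
    subst hm
    intro t ht
    rw [SgnEl.unique hG hZ ht hc]
  obtain ⟨a, ha⟩ := hall 1 (by norm_num)
  obtain ⟨b, hb⟩ := hall 4 (by norm_num)
  refine ⟨a, b, fun t ht htt h1 => ?_⟩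
  obtain ⟨n, hn, hs⟩ := exists_sgn6 (cs := cs) hφ hqq p h2K hZ ht htt
  have hn0 : n ≠ 0 := by
    rintro rfl
    refine h1 (SgnEl.unique hG hZ hs ?_)
    rw [bits_zero]
    exact Cfsg.Agent.H557.LrNF.SgnEl.one
  rcases masks n hn hn0 with h4 | h4
  · exact Or.inl (key 61166 1 _ ok1 a ha n h4 t hs)
  · exact Or.inr (key 4368 4 _ ok4 b hb n h4 t hs)

omit [Fintype K] [Fact p.Prime] [CharP K p] in
/-- **the involutions of `²E₆(q)`, `q` odd** -/
theorem two_2E6 [Fintype K] (hK : Fintype.card K = q ^ 2) (ho : Odd q) :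
    ∃ a b : ↥(Lie.twistedE6 K q), ∀ t : ↥(Lie.twistedE6 K q), t * t = 1 → t ≠ 1 → IsConj t a ∨ IsConj t b := by
  have hqp : IsPrimePow q := by
    have h1 : IsPrimePow (Fintype.card K) := Fintype.isPrimePow_card_of_field
    rw [hK] at h1
    exact (isPrimePow_pow_iff two_ne_zero).1 h1
  obtain ⟨p, hp⟩ := CharP.exists K
  have hprime : p.Prime := CharP.char_prime_of_ne_zero K (CharP.char_ne_zero_of_finite K p)
  have : Fact p.Prime := ⟨hprime⟩
  obtain ⟨φ, hφ, hqq⟩ := ChevalleyStructure.TwE6Basic.exists_frob hqp hK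
  have hF : Odd (Fintype.card K) := by
    rw [hK]
    exact ho.pow
  have hp2 : p ≠ 2 := by
    rintro rfl
    obtain ⟨n, -, hn⟩ := FiniteField.card K 2
    rw [hn] at hF
    exact absurd hF (Nat.not_odd_iff_even.2 (even_two.pow_of_ne_zero n.ne_zero))
  have hpo : Odd p := hprime.odd_of_ne_two hp2
  have hq2 : 2 ≤ q := hqp.two_le
  have hS := Cfsg.Agent.S1070.result hqp hK
  have hs : IsSimpleGroup ↥(Lie.twistedE6 K q) := hS.1
  have hZ : Subgroup.center ↥(Lie.twistedE6 K q) = ⊥ := by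
    rcases (inferInstance : (Subgroup.center ↥(Lie.twistedE6 K q)).Normal).eq_bot_or_eq_top with h1 | h1
    · exact h1
    · exfalso
      apply hS.2
      exact ⟨⟨fun a b => by
        have h2 : a ∈ Subgroup.center ↥(Lie.twistedE6 K q) := by rw [h1]; exact Subgroup.mem_top a
        exact (Subgroup.mem_center_iff.1 h2 b).symm⟩⟩
  obtain ⟨cs, -⟩ : ∃ cs, cs = CoxeterMatrix.F₄.toCoxeterSystem := ⟨_, rfl⟩
  have hW : Finite CoxeterMatrix.F₄.Group := Cfsg.Agent.KFacts.TwESix.Comb.finiteW cs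
  obtain ⟨a, b, hab⟩ := two_torus hφ hqq p hpo hZ cs
  refine ⟨a, b, fun t htt ht1 => ?_⟩
  obtain ⟨k, φ', σ, J, g, N⟩ := exists_nf_inner hp2 (rgd cs hφ hqq p) (G1_eq_top (cs := cs) hφ hqq) hZ htt ht1
  have hJ := J_empty hφ hqq p hq2 hK N
  have hσ := sigma_id hφ hqq p hq2 hK N
  have hw : wJ cs (∅ : Set (Fin 4)) = 1 := by
    have F : Cfsg.Agent.Tits.OppRes.Cox cs := inferInstance
    have h := F.wJ_mem (∅ : Set (Fin 4))
    unfold WJ at h
    rwa [Set.image_empty, Subgroup.closure_empty, Subgroup.mem_bot] at h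
  have hT : k⁻¹ * t * k ∈ T K q := by
    refine mem_T_of (rgd cs hφ hqq p) (GG_top φ hφ hqq) fun c hc => ?_
    have h1 := N.nx.xX_id hσ hc
    rw [hJ, hw, map_one, Module.End.one_apply] at h1
    exact h1
  have h0 : IsConj t (k⁻¹ * t * k) := isConj_iff.2 ⟨k⁻¹, by rw [inv_inv]⟩
  have h2 := hab _ hT (by
    have : k⁻¹ * t * k * (k⁻¹ * t * k) = k⁻¹ * (t * t) * k := by group
    rw [this, htt, mul_one, inv_mul_cancel]) (by
    intro h
    apply ht1
    have : t = k * (k⁻¹ * t * k) * k⁻¹ := by group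
    rw [this, h, mul_one, mul_inv_cancel])
  exact h2.imp h0.trans h0.trans

/-- `²E₆(q)`, `q` odd -/
theorem crow_2e6_odd {L : Type u} [Group L] {K : Type} [Field K] [Fintype K] {q : ℕ}
    (hK : Fintype.card K = q ^ 2) (hq : Odd q) (e : L ≃* Cfsg.Lie.twistedE6 K q) : CRow L := by
  have hqp : IsPrimePow q := by
    have h1 : IsPrimePow (Fintype.card K) := Fintype.isPrimePow_card_of_field
    rw [hK] at h1
    exact (isPrimePow_pow_iff two_ne_zero).1 h1
  obtain ⟨a, b, hab⟩ := two_2E6 hK hq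
  refine CRow.congr e (CRow.of_two_classes a b (fun t ht => ?_)
    (expTwo_of_cyclic (S2108.result hqp hK (by rintro rfl; exact absurd hq (by decide))) (not_four_dvd_gcd _)))
  obtain ⟨h1, h2⟩ := sq_ne ht
  exact hab t h1 h2

end TwESix

end Cfsg.Agent.H151.EM
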