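import Cfsg.Agent.H277.EM.Univ
import Cfsg.Agent.H151.EM.ExcOdd
import Cfsg.Agent.S0822
import Cfsg.Prelude.Def_Classification2

/-!
# S2243: the assembly (helper151)

* `crow_psu42` : `PSU₄(2) ≅ PSp₄(3)`;
* `Rows.{u}` : the rows of the families which are not in `H151/EM/ExcOdd`;
* **`crow_known`** : the rows imply `CRow L` for every known simple group `L` which is not of prime order;
* **`em_final`** : the rows imply S2243.
-/

set_option autoImplicit false
set_option linter.unusedSectionVars false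

namespace Cfsg.Agent.H151.EM

open Cfsg.Agent.H277.MI
open scoped commutatorElement

universe u

/-- `PSU₄(2)` -/
theorem crow_psu42 {L : Type u} [Group L] {F : Type} [Field F] [Fintype F] (hF : Fintype.card F = 4)
    (e : L ≃* Cfsg.PSU 4 F 2)
    (h : ∀ (K : Type) [Field K] [Fintype K], Fintype.card K = 3 → CRow (Cfsg.PSp 2 K)) : CRow L := by
  obtain ⟨e'⟩ := Cfsg.Agent.S0822.result hF (K := ZMod 3) (ZMod.card 3)
  exact CRow.congr (e.trans e') (h (ZMod 3) (ZMod.card 3))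

/-- the rows of the families which are not in `H151/EM/ExcOdd` -/
structure Rows : Prop where
  alt : ∀ {L : Type u} [Group L] [Finite L] [IsSimpleGroup L], Cfsg.IsAlternating L → CRow L
  psl_even : ∀ {L : Type u} [Group L] [Finite L] [IsSimpleGroup L] {F : Type} [Field F] [Fintype F],
    Even (Fintype.card F) → ∀ {n : ℕ}, 2 ≤ n → (n = 2 → 4 ≤ Fintype.card F) →
    (L ≃* Matrix.ProjectiveSpecialLinearGroup (Fin n) F) → CRow L
  psl_odd : ∀ {L : Type u} [Group L] [Finite L] [IsSimpleGroup L] {F : Type} [Field F] [Fintype F],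
    Odd (Fintype.card F) → ∀ {n : ℕ}, 2 ≤ n → (n = 2 → 4 ≤ Fintype.card F) →
    (L ≃* Matrix.ProjectiveSpecialLinearGroup (Fin n) F) → CRow L
  psp_even : ∀ {L : Type u} [Group L] [Finite L] [IsSimpleGroup L] {F : Type} [Field F] [Fintype F],
    Even (Fintype.card F) → ∀ {m : ℕ}, 2 ≤ m → (m = 2 → 3 ≤ Fintype.card F) → (L ≃* Cfsg.PSp m F) → CRow L
  psp_odd : ∀ {L : Type u} [Group L] [Finite L] [IsSimpleGroup L] {F : Type} [Field F] [Fintype F],
    Odd (Fintype.card F) → ∀ {m : ℕ}, 2 ≤ m → (L ≃* Cfsg.PSp m F) → CRow L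
  psu_even : ∀ {L : Type u} [Group L] [Finite L] [IsSimpleGroup L] {F : Type} [Field F] [Fintype F] {n q : ℕ},
    Fintype.card F = q ^ 2 → Even q → 3 ≤ n → ¬ (n = 3 ∧ q = 2) → ¬ (n = 4 ∧ q = 2) →
    (L ≃* Cfsg.PSU n F q) → CRow L
  psu_odd : ∀ {L : Type u} [Group L] [Finite L] [IsSimpleGroup L] {F : Type} [Field F] [Fintype F] {n q : ℕ},
    Fintype.card F = q ^ 2 → Odd q → 3 ≤ n → (L ≃* Cfsg.PSU n F q) → CRow L
  omega_odd : ∀ {L : Type u} [Group L] [Finite L] [IsSimpleGroup L], Cfsg.IsPOmegaOdd L → CRow L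
  plus_even : ∀ {L : Type u} [Group L] [Finite L] [IsSimpleGroup L] {F : Type} [Field F] [Fintype F],
    Even (Fintype.card F) → ∀ {m : ℕ}, 4 ≤ m → ¬ (m = 4 ∧ Fintype.card F = 2) →
    (L ≃* Cfsg.POmega F (Cfsg.quadFormPlus m F)) → CRow L
  o8plus2 : ∀ {L : Type u} [Group L] [Finite L] [IsSimpleGroup L] {F : Type} [Field F] [Fintype F],
    Fintype.card F = 2 → (L ≃* Cfsg.POmega F (Cfsg.quadFormPlus 4 F)) → CRow L
  plus_odd : ∀ {L : Type u} [Group L] [Finite L] [IsSimpleGroup L] {F : Type} [Field F] [Fintype F],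
    Odd (Fintype.card F) → ∀ {m : ℕ}, 4 ≤ m → (L ≃* Cfsg.POmega F (Cfsg.quadFormPlus m F)) → CRow L
  minus_even : ∀ {L : Type u} [Group L] [Finite L] [IsSimpleGroup L] {F : Type} [Field F] [Fintype F],
    Even (Fintype.card F) → ∀ {m : ℕ}, 4 ≤ m → ∀ a b : F,
    (∀ z₁ z₂ : F, z₁ ^ 2 + a * z₁ * z₂ + b * z₂ ^ 2 = 0 → z₁ = 0 ∧ z₂ = 0) →
    (L ≃* Cfsg.POmega F (Cfsg.quadFormMinus (m - 1) F a b)) → CRow L
  minus_odd : ∀ {L : Type u} [Group L] [Finite L] [IsSimpleGroup L] {F : Type} [Field F] [Fintype F],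
    Odd (Fintype.card F) → ∀ {m : ℕ}, 4 ≤ m → ∀ a b : F,
    (∀ z₁ z₂ : F, z₁ ^ 2 + a * z₁ * z₂ + b * z₂ ^ 2 = 0 → z₁ = 0 ∧ z₂ = 0) →
    (L ≃* Cfsg.POmega F (Cfsg.quadFormMinus (m - 1) F a b)) → CRow L
  g2_even : ∀ {L : Type u} [Group L] [Finite L] [IsSimpleGroup L] {F : Type} [Field F] [Fintype F],
    Even (Fintype.card F) → 3 ≤ Fintype.card F → (L ≃* Cfsg.Lie.chevG2.group F) → CRow L
  f4_even : ∀ {L : Type u} [Group L] [Finite L] [IsSimpleGroup L] {F : Type} [Field F] [Fintype F],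
    Even (Fintype.card F) → (L ≃* Cfsg.Lie.chevF4.group F) → CRow L
  e6_even : ∀ {L : Type u} [Group L] [Finite L] [IsSimpleGroup L] {F : Type} [Field F] [Fintype F],
    Even (Fintype.card F) → (L ≃* Cfsg.Lie.chevE6.group F) → CRow L
  e7_even : ∀ {L : Type u} [Group L] [Finite L] [IsSimpleGroup L] {F : Type} [Field F] [Fintype F],
    Even (Fintype.card F) → (L ≃* Cfsg.Lie.chevE7.group F) → CRow L
  e7_odd : ∀ {L : Type u} [Group L] [Finite L] [IsSimpleGroup L] {F : Type} [Field F] [Fintype F],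
    Odd (Fintype.card F) → (L ≃* Cfsg.Lie.chevE7.group F) → CRow L
  e8_even : ∀ {L : Type u} [Group L] [Finite L] [IsSimpleGroup L] {F : Type} [Field F] [Fintype F],
    Even (Fintype.card F) → (L ≃* Cfsg.Lie.chevE8.group F) → CRow L
  tw2e6_even : ∀ {L : Type u} [Group L] [Finite L] [IsSimpleGroup L] {K : Type} [Field K] [Fintype K] {q : ℕ},
    Fintype.card K = q ^ 2 → Even q → (L ≃* Cfsg.Lie.twistedE6 K q) → CRow L
  tw3d4_even : ∀ {L : Type u} [Group L] [Finite L] [IsSimpleGroup L] {K : Type} [Field K] [Fintype K] {q : ℕ},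
    Fintype.card K = q ^ 3 → Even q → (L ≃* Cfsg.Lie.twistedD4 K q) → CRow L
  sz : ∀ {L : Type u} [Group L] [Finite L] [IsSimpleGroup L], Cfsg.Lie.IsoSuzuki L → CRow L
  tw2f4 : ∀ {L : Type u} [Group L] [Finite L] [IsSimpleGroup L], Cfsg.Lie.Iso2F4 L → CRow L
  tits : ∀ {L : Type u} [Group L] [Finite L] [IsSimpleGroup L], Cfsg.Lie.IsoTits L → CRow L
  m11 : ∀ {L : Type u} [Group L] [Finite L] [IsSimpleGroup L], Cfsg.Spor.IsoM11 L → CRow L
  m12 : ∀ {L : Type u} [Group L] [Finite L] [IsSimpleGroup L], Cfsg.Spor.IsoM12 L → CRow L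
  m22 : ∀ {L : Type u} [Group L] [Finite L] [IsSimpleGroup L], Cfsg.Spor.IsoM22 L → CRow L
  m23 : ∀ {L : Type u} [Group L] [Finite L] [IsSimpleGroup L], Cfsg.Spor.IsoM23 L → CRow L
  m24 : ∀ {L : Type u} [Group L] [Finite L] [IsSimpleGroup L], Cfsg.Spor.IsoM24 L → CRow L
  j1 : ∀ {L : Type u} [Group L] [Finite L] [IsSimpleGroup L], Cfsg.Spor.IsoJ1 L → CRow L
  j2 : ∀ {L : Type u} [Group L] [Finite L] [IsSimpleGroup L], Cfsg.Spor.IsoJ2 L → CRow L
  j3 : ∀ {L : Type u} [Group L] [Finite L] [IsSimpleGroup L], Cfsg.Spor.IsoJ3 L → CRow L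
  j4 : ∀ {L : Type u} [Group L] [Finite L] [IsSimpleGroup L], Cfsg.Spor.IsoJ4 L → CRow L
  co1 : ∀ {L : Type u} [Group L] [Finite L] [IsSimpleGroup L], Cfsg.Spor.IsoCo1 L → CRow L
  co2 : ∀ {L : Type u} [Group L] [Finite L] [IsSimpleGroup L], Cfsg.Spor.IsoCo2 L → CRow L
  co3 : ∀ {L : Type u} [Group L] [Finite L] [IsSimpleGroup L], Cfsg.Spor.IsoCo3 L → CRow L
  mcl : ∀ {L : Type u} [Group L] [Finite L] [IsSimpleGroup L], Cfsg.Spor.IsoMcL L → CRow L
  hs : ∀ {L : Type u} [Group L] [Finite L] [IsSimpleGroup L], Cfsg.Spor.IsoHS L → CRow L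
  suz : ∀ {L : Type u} [Group L] [Finite L] [IsSimpleGroup L], Cfsg.Spor.IsoSuz L → CRow L
  he : ∀ {L : Type u} [Group L] [Finite L] [IsSimpleGroup L], Cfsg.Spor.IsoHe L → CRow L
  ru : ∀ {L : Type u} [Group L] [Finite L] [IsSimpleGroup L], Cfsg.Spor.IsoRu L → CRow L
  on : ∀ {L : Type u} [Group L] [Finite L] [IsSimpleGroup L], Cfsg.Spor.IsoON L → CRow L
  ly : ∀ {L : Type u} [Group L] [Finite L] [IsSimpleGroup L], Cfsg.Spor.IsoLy L → CRow L
  fi22 : ∀ {L : Type u} [Group L] [Finite L] [IsSimpleGroup L], Cfsg.Spor.IsoFi22 L → CRow L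
  fi23 : ∀ {L : Type u} [Group L] [Finite L] [IsSimpleGroup L], Cfsg.Spor.IsoFi23 L → CRow L
  fi24 : ∀ {L : Type u} [Group L] [Finite L] [IsSimpleGroup L], Cfsg.Spor.IsoFi24' L → CRow L
  hn : ∀ {L : Type u} [Group L] [Finite L] [IsSimpleGroup L], Cfsg.Spor.IsoHN L → CRow L
  th : ∀ {L : Type u} [Group L] [Finite L] [IsSimpleGroup L], Cfsg.Spor.IsoTh L → CRow L
  b : ∀ {L : Type u} [Group L] [Finite L] [IsSimpleGroup L], Cfsg.Spor.IsoB L → CRow L
  m : ∀ {L : Type u} [Group L] [Finite L] [IsSimpleGroup L], Cfsg.Spor.IsoM L → CRow L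

section known

variable {L : Type u} [Group L] [Finite L] [IsSimpleGroup L]

theorem crow_psl (R : Rows.{u}) (h : Cfsg.IsPSL L) : CRow L := by
  obtain ⟨F, _, _, n, hn, h2, ⟨e⟩⟩ := h
  rcases Nat.even_or_odd (Fintype.card F) with hF | hF
  · exact R.psl_even hF hn h2 e
  · exact R.psl_odd hF hn h2 e

theorem crow_psp (R : Rows.{u}) (h : Cfsg.IsPSp L) : CRow L := by
  obtain ⟨F, _, _, m, hm, h2, ⟨e⟩⟩ := h
  rcases Nat.even_or_odd (Fintype.card F) with hF | hF
  · exact R.psp_even hF hm h2 e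
  · exact R.psp_odd hF hm e

theorem crow_psu (R : Rows.{u}) (h : Cfsg.IsPSU L) : CRow L := by
  obtain ⟨F, _, _, n, q, hF, hn, h32, ⟨e⟩⟩ := h
  rcases Nat.even_or_odd q with hq | hq
  · by_cases h42 : n = 4 ∧ q = 2
    · obtain ⟨rfl, rfl⟩ := h42
      obtain ⟨e'⟩ := Cfsg.Agent.S0822.result hF (K := ZMod 3) (ZMod.card 3)
      exact R.psp_odd (by rw [ZMod.card]; decide) le_rfl (e.trans e')
    · exact R.psu_even hF hq hn h32 h42 e
  · exact R.psu_odd hF hq hn e

theorem crow_plus (R : Rows.{u}) (h : Cfsg.IsPOmegaPlus L) : CRow L := by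
  obtain ⟨F, _, _, m, hm, ⟨e⟩⟩ := h
  rcases Nat.even_or_odd (Fintype.card F) with hF | hF
  · by_cases h42 : m = 4 ∧ Fintype.card F = 2
    · obtain ⟨rfl, h2⟩ := h42
      exact R.o8plus2 h2 e
    · exact R.plus_even hF hm h42 e
  · exact R.plus_odd hF hm e

theorem crow_minus (R : Rows.{u}) (h : Cfsg.IsPOmegaMinus L) : CRow L := by
  obtain ⟨F, _, _, m, a, b, hm, hab, ⟨e⟩⟩ := h
  rcases Nat.even_or_odd (Fintype.card F) with hF | hF
  · exact R.minus_even hF hm a b hab e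
  · exact R.minus_odd hF hm a b hab e

theorem crow_exc (R : Rows.{u}) (h : Cfsg.IsExceptionalLieType L) : CRow L := by
  rcases h with ⟨F, _, _, h3, ⟨e⟩⟩ | ⟨F, _, _, ⟨e⟩⟩ | ⟨F, _, _, ⟨e⟩⟩ | ⟨F, _, _, ⟨e⟩⟩ | ⟨F, _, _, ⟨e⟩⟩ |
    ⟨K, _, _, q, -, hK, ⟨e⟩⟩ | ⟨K, _, _, q, -, hK, ⟨e⟩⟩ | h | h | h | h
  · rcases Nat.even_or_odd (Fintype.card F) with hF | hF
    · exact R.g2_even hF h3 e
    · exact crow_g2_odd hF e
  · rcases Nat.even_or_odd (Fintype.card F) with hF | hF
    · exact R.f4_even hF e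
    · exact crow_f4_odd hF e
  · rcases Nat.even_or_odd (Fintype.card F) with hF | hF
    · exact R.e6_even hF e
    · exact crow_e6_odd hF e
  · rcases Nat.even_or_odd (Fintype.card F) with hF | hF
    · exact R.e7_even hF e
    · exact R.e7_odd hF e
  · rcases Nat.even_or_odd (Fintype.card F) with hF | hF
    · exact R.e8_even hF e
    · exact crow_e8_odd hF e
  · rcases Nat.even_or_odd q with hq | hq
    · exact R.tw2e6_even hK hq e
    · exact crow_2e6_odd hK hq e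
  · rcases Nat.even_or_odd q with hq | hq
    · exact R.tw3d4_even hK hq e
    · exact crow_3d4_odd hK hq e
  · exact R.sz h
  · exact crow_ree h
  · exact R.tw2f4 h
  · exact R.tits h

theorem crow_spor (R : Rows.{u}) (h : Cfsg.IsSporadicGroup L) : CRow L := by
  rcases h with h | h | h | h | h | h | h | h | h | h | h | h | h | h | h | h | h | h | h | h | h | h | h | h | h | h
  · exact R.m11 h
  · exact R.m12 h
  · exact R.m22 h
  · exact R.m23 h
  · exact R.m24 h
  · exact R.j1 h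
  · exact R.j2 h
  · exact R.j3 h
  · exact R.j4 h
  · exact R.co1 h
  · exact R.co2 h
  · exact R.co3 h
  · exact R.mcl h
  · exact R.hs h
  · exact R.suz h
  · exact R.he h
  · exact R.ru h
  · exact R.on h
  · exact R.ly h
  · exact R.fi22 h
  · exact R.fi23 h
  · exact R.fi24 h
  · exact R.hn h
  · exact R.th h
  · exact R.b h
  · exact R.m h

/-- **every known simple group which is not of prime order** -/
theorem crow_known (R : Rows.{u}) (h0 : ¬ Cfsg.IsPrimeCyclic L) (h : Cfsg.IsKnownSimple' L) : CRow L := by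
  rcases h with h | h | h | h | h | h | h | h | h | h
  · exact absurd h h0
  · exact R.alt h
  · exact crow_psl R h
  · exact crow_psp R h
  · exact crow_psu R h
  · exact R.omega_odd h
  · exact crow_plus R h
  · exact crow_minus R h
  · exact crow_exc R h
  · exact crow_spor R h

end known

/-- **The assembly of S2243.** -/
theorem em_final (R : Rows.{u}) {G : Type u} [Group G] [Finite G] (hq : Cfsg.IsQuasisimple G)
    (hK : Cfsg.IsKnownSimple' (G ⧸ Subgroup.center G)) : EM G := by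
  have hs : IsSimpleGroup (G ⧸ Subgroup.center G) := hq.2
  refine em_quasisimple hq (crow_known R ?_ hK)
  intro h
  have : Fact (Nat.card (G ⧸ Subgroup.center G)).Prime := ⟨h⟩
  have hc : IsCyclic (G ⧸ Subgroup.center G) := isCyclic_of_prime_card rfl
  have hcm : ∀ a b : G ⧸ Subgroup.center G, a * b = b * a :=
    (IsCyclic.isMulCommutative : IsMulCommutative (G ⧸ Subgroup.center G)).is_comm.comm
  have h1 : commutator G ≤ Subgroup.center G := by
    rw [_root_.commutator_def, Subgroup.commutator_le]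
    intro a _ b _
    rw [← QuotientGroup.eq_one_iff]
    rw [commutatorElement_def]
    change (QuotientGroup.mk' (Subgroup.center G)) (a * b * a⁻¹ * b⁻¹) = 1
    rw [map_mul, map_mul, map_mul, map_inv, map_inv,
      hcm (QuotientGroup.mk' (Subgroup.center G) a) (QuotientGroup.mk' (Subgroup.center G) b),
      mul_inv_cancel_right, mul_inv_cancel]
  have h2 : commutator G = ⊤ := hq.1.commutator_eq_top
  rw [h2, top_le_iff] at h1
  have h3 : Subsingleton (G ⧸ Subgroup.center G) := by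
    refine ⟨fun a b => ?_⟩
    have key : ∀ a : G ⧸ Subgroup.center G, a = 1 := by
      intro a
      induction a using QuotientGroup.induction_on with
      | H z => rw [QuotientGroup.eq_one_iff, h1]; exact Subgroup.mem_top z
    rw [key a, key b]
  have h4 : Nontrivial (G ⧸ Subgroup.center G) := hs.toNontrivial
  exact not_subsingleton _ h3

end Cfsg.Agent.H151.EM
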